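/-
Coset enumeration certificate: the assembled result.
-/
import Cfsg.Agent.Lib.Spor.TC.Steps
import Cfsg.Agent.Lib.Spor.Fi23.Rels
import Cfsg.Agent.Lib.Spor.Fi23.CH.Part0
import Cfsg.Agent.Lib.Spor.Fi23.CH.Part1
import Cfsg.Agent.Lib.Spor.Fi23.CH.Part2
import Cfsg.Agent.Lib.Spor.Fi23.CH.Part3
import Cfsg.Agent.Lib.Spor.Fi23.CH.Part4
import Cfsg.Agent.Lib.Spor.Fi23.CH.Part5
import Cfsg.Agent.Lib.Spor.Fi23.CH.Part6
import Cfsg.Agent.Lib.Spor.Fi23.CH.Part7
import Cfsg.Agent.Lib.Spor.Fi23.CH.Part8
import Cfsg.Agent.Lib.Spor.Fi23.CH.Part9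
import Cfsg.Agent.Lib.Spor.Fi23.CH.Part10
import Cfsg.Agent.Lib.Spor.Fi23.CH.Part11
import Cfsg.Agent.Lib.Spor.Fi23.CH.Part12
import Cfsg.Agent.Lib.Spor.Fi23.CH.Part13

namespace CfsgLib.Spor.Fi23.CH

open CfsgLib.Spor.TC

theorem steps_ok : cert.StepsOK 0 75478 :=
  ((((((((((((((((((((((((((steps0.append _ steps2832).append _ steps5699).append _ steps8592).append _ steps11524).append _ steps14476).append _ steps17434).append _ steps20365).append _ steps23526).append _ steps26489).append _ steps29403).append _ steps32435).append _ steps35286).append _ steps38122).append _ steps40949).append _ steps43795).append _ steps46621).append _ steps49436).append _ steps52263).append _ steps55091).append _ steps57934).append _ steps60791).append _ steps63653).append _ steps66515).append _ steps69372).append _ steps72202).append _ steps75028)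

theorem rows_ok : cert.RowsOK 75478 14080 0 14080 :=
  ((((((((((((rows0.append _ rows1143).append _ rows2286).append _ rows3429).append _ rows4572).append _ rows5715).append _ rows6858).append _ rows8001).append _ rows9144).append _ rows10287).append _ rows11430).append _ rows12573).append _ rows13716)

theorem row_zero : cert.rowNode 0 = 0 := by decide +kernel

/-- The certificate, for the relators as powers of words. -/
noncomputable def cosetCert : CosetCert 9 relsH [1, 2, 3, 4, 5, 6, 7, 8] 14080 :=
  ⟨cert, 75478, steps_ok, rows_ok, row_zero, by decide, rfl, by decide +kernel, by decide +kernel⟩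

end CfsgLib.Spor.Fi23.CH
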